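import Groth.Agent.L10.RelDualComp.Ev
import Groth.Agent.L10.RelDual.RHom
import Groth.Agent.L10.KFlat.Res
import Groth.Agent.L10.DRing.RHomCx

/-!
If `A → Hom_T(A, I)` is a quasi-isomorphism and `G` is bounded and flat over `T`, then so is
`A ⊗_T G → Hom_T(A, I ⊗_T G)`.
-/

set_option autoImplicit false
set_option backward.defeqAttrib.useBackward true
set_option backward.isDefEq.respectTransparency false
set_option backward.isDefEq.respectTransparency.types false
set_option linter.style.haveILetI false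
set_option maxHeartbeats 1600000

universe u

open CategoryTheory CategoryTheory.Limits MonoidalCategory CochainComplex CochainComplex.HomComplex
open scoped TensorProduct

attribute [local instance] HasDerivedCategory.standard

noncomputable section

namespace Groth.L10.RelDualComp

open Groth.L28.TensorCx Groth.L29.RestrictAdj

variable {T A : Type u} [CommRing T] [CommRing A] (μ : T →+* A)

/-- `A` in degree zero as a complex of `T`-modules -/
abbrev sA : DRing.Cx T := (CochainComplex.singleFunctor (ModuleCat.{u} T) 0).obj (ringRes μ)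

/-- `A` in degree zero -/
abbrev sAA (A : Type u) [CommRing A] : DRing.Cx A :=
  (CochainComplex.singleFunctor (ModuleCat.{u} A) 0).obj (ModuleCat.of A A)

/-- restriction of `A[0]` -/
def sRes : (Groth.L29.RestrictAdj.resCx μ).obj (sAA A) ≅ sA μ :=
  (HomologicalComplex.singleMapHomologicalComplex (ModuleCat.restrictScalars.{u} μ) (ComplexShape.up ℤ) 0).app
    (ModuleCat.of A A)

/-- the value of an element of `A[0]` in degree zero -/
abbrev valT (x : (sA μ).X 0) : A :=
  (HomologicalComplex.singleObjXSelf (ComplexShape.up ℤ) 0 (ringRes μ)).hom x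

/-- the value of an element of `A[0]` in degree zero -/
abbrev valA (x : (sAA A).X 0) : A :=
  (HomologicalComplex.singleObjXSelf (ComplexShape.up ℤ) 0 (ModuleCat.of A A)).hom x

theorem valA_sRes_inv (x : (sA μ).X 0) : valA (A := A) ((sRes μ).inv.f 0 x) = valT μ x := by
  have h : ((sRes μ).inv.f 0) ≫ (ModuleCat.restrictScalars.{u} μ).map
      (HomologicalComplex.singleObjXSelf (ComplexShape.up ℤ) 0 (ModuleCat.of A A)).hom =
      (HomologicalComplex.singleObjXSelf (ComplexShape.up ℤ) 0 (ringRes μ)).hom := by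
    have h1 : (sRes μ).hom.f 0 = (ModuleCat.restrictScalars.{u} μ).map
        (HomologicalComplex.singleObjXSelf (ComplexShape.up ℤ) 0 (ModuleCat.of A A)).hom ≫
        (HomologicalComplex.singleObjXSelf (ComplexShape.up ℤ) 0 (ringRes μ)).inv :=
      HomologicalComplex.singleMapHomologicalComplex_hom_app_self _ _ _ _
    have h2 : (sRes μ).inv.f 0 ≫ (sRes μ).hom.f 0 = 𝟙 _ := by
      rw [← HomologicalComplex.comp_f, Iso.inv_hom_id, HomologicalComplex.id_f]
    rw [h1] at h2
    rw [← cancel_mono (HomologicalComplex.singleObjXSelf (ComplexShape.up ℤ) 0 (ringRes μ)).inv, Category.assoc, h2,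
      Iso.hom_inv_id]
  exact ConcreteCategory.congr_hom h x

variable {μ} {I : DRing.Cx T} (φ : sAA A ⟶ coindCx μ I)

/-- the functional `A → I⁰` -/
abbrev vφ : ringRes μ →ₗ[T] I.X 0 :=
  ModuleCat.CoextendScalars.equiv μ (I.X 0)
    (φ.f 0 ((HomologicalComplex.singleObjXSelf (ComplexShape.up ℤ) 0 (ModuleCat.of A A)).inv (1 : A)))

theorem φ_val (y : (sAA A).X 0) (s : A) :
    ModuleCat.CoextendScalars.equiv μ (I.X 0) (φ.f 0 y) s = vφ φ (s * valA y : A) := by
  let e := HomologicalComplex.singleObjXSelf (ComplexShape.up ℤ) 0 (ModuleCat.of A A)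
  have hy : y = valA y • e.inv (1 : A) := by
    have h1 : e.inv ((valA y • (1 : A) : A)) = valA y • e.inv (1 : A) := map_smul e.inv.hom (valA y) (1 : A)
    rw [← h1, smul_eq_mul, mul_one]
    exact (ConcreteCategory.congr_hom e.hom_inv_id y).symm
  conv_lhs => rw [hy, map_smul]
  rfl

/-- the map `A → I` -/
def εOf : sA μ ⟶ I := (sRes μ).inv ≫ (Groth.L29.RestrictAdj.resCx μ).map φ ≫ counitCx μ I

theorem εOf_val (x : (sA μ).X 0) : (εOf φ).f 0 x = vφ φ ((valT μ x : A)) := by
  show ModuleCat.CoextendScalars.equiv μ (I.X 0) (φ.f 0 ((sRes μ).inv.f 0 x)) (1 : A) = _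
  rw [φ_val, valA_sRes_inv, one_mul]

variable (μ) in
/-- the Hom complex of a coinduced complex through a resolution -/
def toHom {F : DRing.Cx T} (q : F ⟶ sA μ) (L : DRing.Cx T) :
    (Groth.L29.RestrictAdj.resCx μ).obj (coindCx μ L) ⟶ DRing.homCx F L :=
  (resCoindIso μ L ≪≫ RelDual.hmIso L (ringRes μ)).hom ≫ Groth.L10.RHomCx.homCxPre q L

theorem toHom_v {F : DRing.Cx T} (q : F ⟶ sA μ) (L : DRing.Cx T) (n : ℤ)
    (y : ((Groth.L29.RestrictAdj.resCx μ).obj (coindCx μ L)).X n) (x : F.X 0) :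
    (show Cochain F L n from (toHom μ q L).f n y).v 0 n (zero_add n) x =
      ModuleCat.CoextendScalars.equiv μ (L.X n) y ((valT μ (q.f 0 x) : A)) := by
  show ((Cochain.ofHom q).comp (Cochain.fromSingleMk _ (show 0 + n = n by omega)) (zero_add n)).v 0 n (zero_add n) x = _
  rw [Cochain.comp_v _ _ (zero_add n) 0 0 n (add_zero 0) (zero_add n), Cochain.ofHom_v, Cochain.fromSingleMk_v]
  rfl

theorem toHom_v_ne {F : DRing.Cx T} (q : F ⟶ sA μ) (L : DRing.Cx T) (n : ℤ)
    (y : ((Groth.L29.RestrictAdj.resCx μ).obj (coindCx μ L)).X n) (j r : ℤ) (hr : j + n = r) (hj : j ≠ 0) :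
    (show Cochain F L n from (toHom μ q L).f n y).v j r hr = 0 := by
  show ((Cochain.ofHom q).comp (Cochain.fromSingleMk _ (show 0 + n = n by omega)) (zero_add n)).v j r hr = _
  rw [Cochain.comp_v _ _ (zero_add n) j j r (add_zero j) hr, Cochain.ofHom_v,
    Cochain.fromSingleMk_v_eq_zero _ _ j r hr hj, Limits.comp_zero]

/-- the adjunct of a map into a complex of `T`-modules -/
abbrev adjunct (μ : T →+* A) {M : DRing.Cx A} {L : DRing.Cx T} (g : (Groth.L29.RestrictAdj.resCx μ).obj M ⟶ L) :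
    M ⟶ coindCx μ L :=
  unitCx μ M ≫ ((ModuleCat.coextendScalars.{u, u, u} μ).mapHomologicalComplex _).map g

theorem adjunct_val {M : DRing.Cx A} {L : DRing.Cx T} (g : (Groth.L29.RestrictAdj.resCx μ).obj M ⟶ L) (n : ℤ)
    (m : M.X n) (s : A) :
    ModuleCat.CoextendScalars.equiv μ (L.X n) ((adjunct μ g).f n m) s = g.f n ((s • m : M.X n)) := rfl

theorem quasiIso_adjunct (hμ : Function.Surjective μ) {F : DRing.Cx T} {b : ℤ} (hFb : DRing.VanishesAbove F b)
    (hFp : DRing.TermwiseFiniteProjective F) (q : F ⟶ sA μ) [QuasiIso q] [I.IsKInjective] {c : ℤ}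
    (hI : ∀ i, i < c → IsZero (I.X i)) [QuasiIso φ]
    (G : DRing.Cx T) {a' b' : ℤ} (hG : ∀ i, i < a' → IsZero (G.X i)) (hG' : DRing.VanishesAbove G b')
    (hGf : DRing.TermwiseFlat G)
    (M : DRing.Cx A) (e : (Groth.L29.RestrictAdj.resCx μ).obj M ≅ sA μ ⊗ G)
    (L : DRing.Cx T) [L.IsKInjective] (ι : I ⊗ G ⟶ L) [QuasiIso ι] :
    QuasiIso (adjunct μ (e.hom ≫ (εOf φ ▷ G) ≫ ι)) := by
  haveI : F.IsStrictlyLE b := (CochainComplex.isStrictlyLE_iff _ _).2 hFb
  haveI : ∀ i, CategoryTheory.Projective (F.X i) := fun i => (IsProjective.iff_projective _).1 (hFp i).2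
  haveI : F.IsKProjective := CochainComplex.isKProjective_of_projective F b
  haveI := Groth.L10.RHomCx.quasiIso_homCxPre q I
  haveI := Groth.L10.RHomCx.quasiIso_homCxPre q L
  haveI := Groth.L10.RHomCx.quasiIso_homCxMap F ι
  haveI : QuasiIso ((Groth.L29.RestrictAdj.resCx μ).map φ) :=
    HomologicalComplex.quasiIso_map_iff_of_preservesHomology φ (ModuleCat.restrictScalars.{u} μ) |>.2 inferInstance
  let σ : sA μ ⟶ DRing.homCx F I := (sRes μ).inv ≫ (Groth.L29.RestrictAdj.resCx μ).map φ ≫ toHom μ q I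
  haveI : QuasiIso (toHom μ q I) := by unfold toHom; infer_instance
  haveI : QuasiIso (toHom μ q L) := by unfold toHom; infer_instance
  haveI : QuasiIso σ := inferInstanceAs (QuasiIso ((sRes μ).inv ≫ (Groth.L29.RestrictAdj.resCx μ).map φ ≫ toHom μ q I))
  haveI := Groth.L10.KFlat.quasiIso_whiskerRight σ (Groth.L10.KFlat.of_bounded G b' hG' hGf)
  haveI := isIso_ev hFb hFp hI G hG
  set ψ := adjunct μ (e.hom ≫ (εOf φ ▷ G) ≫ ι) with hψ
  have key : (Groth.L29.RestrictAdj.resCx μ).map ψ ≫ toHom μ q L =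
      e.hom ≫ (σ ▷ G) ≫ ev hFb hFp hI G ≫ DRing.homCxMap F ι := by
    rw [← cancel_epi e.inv, Iso.inv_hom_id_assoc]
    refine HomologicalComplex.hom_ext _ _ fun n => Groth.L28.TensorCx.hom_ext fun p k hpk z => ?_
    by_cases hp : p = 0
    swap
    · haveI : Subsingleton ((sA μ).X p ⊗[T] G.X k) := Groth.L28.TensorQis.subsingleton_tensor_left (G.X k)
        (HomologicalComplex.isZero_single_obj_X (ComplexShape.up ℤ) 0 (ringRes μ) p hp)
      rw [Subsingleton.elim (α := (sA μ).X p ⊗[T] G.X k) z 0]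
      simp only [map_zero]
    subst hp
    obtain rfl : k = n := by omega
    induction z using TensorProduct.induction_on with
    | zero => simp only [map_zero]
    | add z z' hz hz' => simp only [map_add, hz, hz']
    | tmul x g =>
    refine Cochain.ext _ _ (fun j r hr => ModuleCat.hom_ext (LinearMap.ext fun f => ?_))
    have hR : ((σ ▷ G).f k) (ins (sA μ) G 0 k k (zero_add k) (x ⊗ₜ[T] g)) =
        ins (DRing.homCx F I) G 0 k k (zero_add k) (σ.f 0 x ⊗ₜ[T] g) :=
      (map_ins σ (𝟙 G) 0 k k (zero_add k) _).trans (by rw [TensorProduct.map_tmul]; rfl)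
    show (show Cochain F L k from (toHom μ q L).f k (ψ.f k (e.inv.f k _))).v j r hr f =
      ((show Cochain F (I ⊗ G) k from (ev hFb hFp hI G).f k ((σ ▷ G).f k _)).comp (Cochain.ofHom ι) (add_zero k)).v j r hr f
    rw [Cochain.comp_zero_cochain_v, Cochain.ofHom_v, ModuleCat.comp_apply, hR,
      ev_ins hFb hFp hI G 0 k k (zero_add k) (σ.f 0 x) g j r j hr (add_zero j) (by omega) f]
    by_cases hj : j = 0
    · subst hj
      obtain rfl : r = k := by omega
      have hh : (show Cochain F I 0 from σ.f 0 x).v 0 0 (add_zero 0) f = vφ φ (((valT μ (q.f 0 f) : A) * (valT μ x : A) : A)) := by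
        show (show Cochain F I 0 from (toHom μ q I).f 0 (φ.f 0 ((sRes μ).inv.f 0 x))).v 0 0 (zero_add 0) f = _
        rw [toHom_v, φ_val, valA_sRes_inv]
      rw [toHom_v, hψ, adjunct_val]
      obtain ⟨t, ht⟩ := hμ (valT μ (q.f 0 f))
      rw [← ht, hh]
      let m : ((Groth.L29.RestrictAdj.resCx μ).obj M).X r := e.inv.f r (ins (sA μ) G 0 r r (zero_add r) (x ⊗ₜ[T] g))
      show ι.f r ((εOf φ ▷ G).f r (e.hom.f r (t • m))) = _
      have hm : e.hom.f r (t • m) = ins (sA μ) G 0 r r (zero_add r) ((t • x) ⊗ₜ[T] g) := by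
        rw [map_smul, ← TensorProduct.smul_tmul', map_smul (ins (sA μ) G 0 r r (zero_add r))]
        exact congrArg (t • ·) (ConcreteCategory.congr_hom (congrArg (fun w => HomologicalComplex.Hom.f w r) e.inv_hom_id) _)
      rw [hm]
      have hw : (εOf φ ▷ G).f r (ins (sA μ) G 0 r r (zero_add r) ((t • x) ⊗ₜ[T] g)) =
          ins I G 0 r r (zero_add r) ((εOf φ).f 0 (t • x) ⊗ₜ[T] g) :=
        (map_ins (εOf φ) (𝟙 G) 0 r r (zero_add r) _).trans (by rw [TensorProduct.map_tmul]; rfl)
      rw [hw, εOf_val]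
      have hv : valT μ (t • x) = μ t * valT μ x :=
        map_smul (HomologicalComplex.singleObjXSelf (ComplexShape.up ℤ) 0 (ringRes μ)).hom.hom t x
      rw [hv, ← ht]
      simp
    · rw [toHom_v_ne q L k _ j r hr hj]
      have hh : (show Cochain F I 0 from σ.f 0 x).v j j (add_zero j) = 0 :=
        toHom_v_ne q I 0 _ j j (add_zero j) hj
      rw [hh]
      simp
  haveI : QuasiIso ((Groth.L29.RestrictAdj.resCx μ).map ψ ≫ toHom μ q L) := by
    rw [key]
    infer_instance
  haveI : QuasiIso ((Groth.L29.RestrictAdj.resCx μ).map ψ) := quasiIso_of_comp_right _ (toHom μ q L)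
  exact (HomologicalComplex.quasiIso_map_iff_of_preservesHomology ψ (ModuleCat.restrictScalars.{u} μ)).1 inferInstance

end Groth.L10.RelDualComp
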