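import Groth.Agent.L10.RelDual.Univ
import Groth.Agent.L10.DRing.CxDual

/-!
`Hom(F, Y) ⊗ G → Hom(F, Y ⊗ G)` on elements, for `F` bounded above finite projective and `Y`, `G` bounded below.
-/

set_option autoImplicit false
set_option backward.defeqAttrib.useBackward true
set_option backward.isDefEq.respectTransparency false
set_option backward.isDefEq.respectTransparency.types false
set_option linter.style.haveILetI false
set_option maxHeartbeats 1600000

universe u

open CategoryTheory CategoryTheory.Limits MonoidalCategory CochainComplex CochainComplex.HomComplex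
open scoped TensorProduct

attribute [local instance] HasDerivedCategory.standard

noncomputable section

namespace Groth.L10.RelDualComp

open Groth.L28.TensorCx Groth.L10.HomCxPerfect Groth.L10.DualCx

variable {T : Type u} [CommRing T] {F : DRing.Cx T} {b c : ℤ} (hFb : DRing.VanishesAbove F b)
  (hFp : DRing.TermwiseFiniteProjective F) {Y : DRing.Cx T} (hY : ∀ i, i < c → IsZero (Y.X i))
  (G : DRing.Cx T)

/-- the comparison map -/
def ev : DRing.homCx F Y ⊗ G ⟶ DRing.homCx F (Y ⊗ G) :=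
  ((RelDual.θIso hFb hFp hY).inv ▷ G) ≫ (α_ (dual F) Y G).hom ≫ θ F (Y ⊗ G)

theorem isIso_ev {c' : ℤ} (hG : ∀ i, i < c' → IsZero (G.X i)) : IsIso (ev hFb hFp hY G) := by
  haveI : IsIso (θ F (Y ⊗ G)) := inferInstanceAs (IsIso (RelDual.θIso hFb hFp (K := Y ⊗ G) (c := c + c')
    (fun i hi => RelDual.isZero_tensor Y G hY hG i hi)).hom)
  unfold ev
  infer_instance

theorem comp_ins_self (K : DRing.Cx T) (p q n : ℤ) (h : p + q = n) (φ : (dual F).X p) (y : K.X q) (x : F.X (-p)) :
    comp F K p q n (ins (dual F) K p q n h (φ ⊗ₜ[T] y)) x =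
      (((p * q).negOnePow : ℤ) : T) • ((show Module.Dual T (F.X (-p)) from φ) x • y) := by
  unfold comp
  show (((p * q).negOnePow : ℤ) : T) • dualTensorHom T (F.X (-p)) (K.X q) (proj (dual F) K p q n (ins (dual F) K p q n h (φ ⊗ₜ[T] y))) x = _
  refine congrArg ((((p * q).negOnePow : ℤ) : T) • ·) ?_
  exact congrArg (fun w => dualTensorHom T (F.X (-p)) (K.X q) w x) (proj_ins_self (dual F) K p q n h _)

/-- a component of the comparison map -/
theorem ev_ins (m k n : ℤ) (hmk : m + k = n) (h : Cochain F Y m) (g : G.X k) (j q r : ℤ) (hj : j + n = q)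
    (hr : j + m = r) (hq : r + k = q) (x : F.X j) :
    (show Cochain F (Y ⊗ G) n from (ev hFb hFp hY G).f n
        (ins (DRing.homCx F Y) G m k n hmk ((show (DRing.homCx F Y).X m from h) ⊗ₜ[T] g))).v j q hj x =
      (((j * k).negOnePow : ℤ) : T) • ins Y G r k q hq (h.v j r hr x ⊗ₜ[T] g) := by
  obtain ⟨t, rfl⟩ := (RelDual.θf_bijective hFb hFp hY m).2 h
  have e0 : ((RelDual.θIso hFb hFp hY).inv ▷ G).f n
      (ins (DRing.homCx F Y) G m k n hmk ((show (DRing.homCx F Y).X m from θf F Y m t) ⊗ₜ[T] g)) =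
      ins (dual F ⊗ Y) G m k n hmk (t ⊗ₜ[T] g) := by
    refine (map_ins (RelDual.θIso hFb hFp hY).inv (𝟙 G) m k n hmk _).trans ?_
    rw [TensorProduct.map_tmul]
    congr 2
    exact congrArg (fun φ : (dual F ⊗ Y) ⟶ (dual F ⊗ Y) => φ.f m t) (RelDual.θIso hFb hFp hY).hom_inv_id
  show (θf F (Y ⊗ G) n ((α_ (dual F) Y G).hom.f n (((RelDual.θIso hFb hFp hY).inv ▷ G).f n _))).v j q hj x = _
  rw [e0]
  obtain ⟨p, rfl⟩ : ∃ p, j = -p := ⟨-j, (neg_neg j).symm⟩
  rw [θf_v F (Y ⊗ G) n p q hj, θf_v F Y m p r hr]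
  show comp F (Y ⊗ G) p q n ((α_ (dual F) Y G).hom.f n (ins (dual F ⊗ Y) G m k n hmk (t ⊗ₜ[T] g))) x =
    _ • ins Y G r k q hq (comp F Y p r m t x ⊗ₜ[T] g)
  obtain ⟨N, s, rfl⟩ := Groth.L10.CxDual.exists_decomp (dual F) Y m t
  simp only [TensorProduct.sum_tmul, map_sum, LinearMap.sum_apply, Finset.smul_sum]
  refine Finset.sum_congr rfl fun i _ => ?_
  obtain ⟨p', q', ⟨e⟩, φ, y⟩ := s i
  change comp F (Y ⊗ G) p q n ((α_ (dual F) Y G).hom.f n (ins (dual F ⊗ Y) G m k n hmk
      (ins (dual F) Y p' q' m e (φ ⊗ₜ[T] y) ⊗ₜ[T] g))) x =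
    _ • ins Y G r k q hq (comp F Y p r m (ins (dual F) Y p' q' m e (φ ⊗ₜ[T] y)) x ⊗ₜ[T] g)
  rw [Groth.L10.CxDual.assoc_ins (dual F) Y G p' q' k m (q' + k) n e rfl hmk (by omega) φ y g]
  by_cases hp : p' = p
  · subst hp
    obtain rfl : r = q' := by omega
    obtain rfl : q = r + k := by omega
    rw [comp_ins_self, comp_ins_self]
    generalize hv : (show Module.Dual T (F.X (-p')) from φ) x = v
    simp only [← TensorProduct.smul_tmul', map_smul, smul_smul]
    congr 1
    have hs : (p' * (r + k)).negOnePow = (-p' * k).negOnePow * (p' * r).negOnePow := by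
      rw [neg_mul, Int.negOnePow_neg, ← Int.negOnePow_add]
      congr 1
      ring
    rw [hs, Units.val_mul, Int.cast_mul, mul_assoc]
  · rw [comp_ins_ne F (Y ⊗ G) _ _ _ _ n _ (fun h => hp h.1) _, comp_ins_ne F Y _ _ _ _ m _ (fun h => hp h.1) _]
    simp

end Groth.L10.RelDualComp
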