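import Groth.Agent.L10.RelDualComp.Model
import Groth.Agent.L10.RelDual.Swap
import Groth.Agent.L10.RelDual.BaseChangeMain
import Groth.Agent.L29.Dual.InjRep

/-!
Composites of relative dualizing complexes: the diagonal condition.
-/

set_option autoImplicit false
set_option backward.defeqAttrib.useBackward true
set_option backward.isDefEq.respectTransparency false
set_option backward.isDefEq.respectTransparency.types false
set_option linter.style.haveILetI false
set_option maxHeartbeats 1600000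

universe u

open CategoryTheory CategoryTheory.Limits MonoidalCategory CochainComplex
open scoped TensorProduct

attribute [local instance] HasDerivedCategory.standard

noncomputable section

namespace Groth.L10.RelDualComp

open Groth.L29.RestrictAdj Groth.L10.RelDual

/-- the ring in degree zero in the derived category -/
def inDIso (A : Type u) [CommRing A] : Dual.inD A A ≅ DRing.toD (sAA A) :=
  (DerivedCategory.singleFunctorIsoCompQ (ModuleCat.{u} A) 0).app _

/-- coinduction of complexes along a composite -/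
def coindCompIso {S P B : Type u} [CommRing S] [CommRing P] [CommRing B] (f : S →+* P) (g : P →+* B) (h : S →+* B)
    (hh : h = g.comp f) (L : DRing.Cx S) : coindCx h L ≅ coindCx g (coindCx f L) :=
  let e : ModuleCat.coextendScalars.{u, u, u} h ≅
      ModuleCat.coextendScalars.{u, u, u} f ⋙ ModuleCat.coextendScalars.{u, u, u} g :=
    (ModuleCat.restrictCoextendScalarsAdj h).rightAdjointUniq
      (((ModuleCat.restrictCoextendScalarsAdj g).comp (ModuleCat.restrictCoextendScalarsAdj f)).ofNatIsoLeft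
        (ModuleCat.restrictScalarsComp' f g h hh).symm)
  HomologicalComplex.Hom.isoOfComponents (fun n => e.app (L.X n))
    (fun i j _ => (e.hom.naturality (L.d i j)).symm)

variable (R A B : Type u) [CommRing R] [CommRing A] [CommRing B] [Algebra R A] [Algebra A B] [Algebra R B]
  [IsScalarTower R A B] [Module.Flat R A] [Algebra.FinitePresentation R A] [Module.Flat A B]

/-- flatness of the extended model over `A ⊗_R A` -/
theorem flat_res_ext (G : DRing.Cx B)
    (hGf : ∀ i, Module.Flat A ((ModuleCat.restrictScalars.{u} (algebraMap A B)).obj (G.X i))) (i : ℤ) :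
    Module.Flat (A ⊗[R] A)
      ((ModuleCat.restrictScalars.{u} (πSq R A B)).obj (((_root_.DTen.extCx (j₁ R B)).obj G).X i)) := by
  let jl : A →+* A ⊗[R] B := Algebra.TensorProduct.includeLeftRingHom
  let m : A ⊗[R] A →+* A ⊗[R] B :=
    (Algebra.TensorProduct.map (AlgHom.id R A) (IsScalarTower.toAlgHom R A B)).toRingHom
  have hm : m.Flat := RingHom.Flat.tensorProductMap (f := AlgHom.id R A)
    (RingHom.Flat.id A) (flat_algHom A B inferInstance)
  obtain ⟨e⟩ := (push_left R A B).nonempty_bcRes G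
  let N := (ModuleCat.restrictScalars.{u} (ψR R A B)).obj (((_root_.DTen.extCx (j₁ R B)).obj G).X i)
  have hN : Module.Flat (A ⊗[R] B) N := by
    letI := jl.toAlgebra
    let M : ModuleCat.{u} A := ((_root_.DTen.resCx (algebraMap A B)).obj G).X i
    have hfl : Module.Flat A M := hGf i
    exact @Module.Flat.of_linearEquiv (A ⊗[R] B) _ _ _ _ _ _ _ (@Module.Flat.baseChange A (A ⊗[R] B) M _ _ jl.toAlgebra _ _ hfl)
      (((HomologicalComplex.eval (ModuleCat.{u} (A ⊗[R] B)) (ComplexShape.up ℤ) i).mapIso e.symm).toLinearEquiv.trans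
        (Groth.L29.FlatBC.extEquiv A (A ⊗[R] B) M))
  letI := m.toAlgebra
  haveI : Module.Flat (A ⊗[R] A) (A ⊗[R] B) := hm
  letI : Module (A ⊗[R] A) N := Module.compHom N m
  haveI : IsScalarTower (A ⊗[R] A) (A ⊗[R] B) N := IsScalarTower.of_algebraMap_smul fun _ _ => rfl
  haveI : Module.Flat (A ⊗[R] A) N := Module.Flat.trans (A ⊗[R] A) (A ⊗[R] B) N
  have hπ : πSq R A B = (ψR R A B).comp m :=
    RingHom.ext fun z => by
      induction z using TensorProduct.induction_on with
      | zero => simp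
      | tmul x y => simp [m]
      | add a b ha hb => rw [map_add, map_add, ha, hb]
  exact Module.Flat.of_linearEquiv (M := N)
    { toFun := fun x => x
      invFun := fun x => x
      map_add' := fun _ _ => rfl
      map_smul' := fun t x => by
        show (πSq R A B t) • (show ((_root_.DTen.extCx (j₁ R B)).obj G).X i from x) = _
        rw [hπ]
        rfl
      left_inv := fun _ => rfl
      right_inv := fun _ => rfl }

variable [Algebra.FinitePresentation A B]

/-- the diagonal condition for a composite -/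
theorem nonempty_diag
    {RμA : Dual.D (A ⊗[R] A) ⥤ Dual.D A} (adjA : DRing.restrictD (μ R A) ⊣ RμA)
    {RμBA : Dual.D (B ⊗[A] B) ⥤ Dual.D B} (adjBA : DRing.restrictD (μ A B) ⊣ RμBA)
    {RμB : Dual.D (B ⊗[R] B) ⥤ Dual.D B} (adjB : DRing.restrictD (μ R B) ⊣ RμB)
    (E : DRing.Cx A) {a b : ℤ} (hE : DRing.VanishesOutside E a b)
    (e₀ : RμA.obj (DRing.toD ((_root_.DTen.extCx (j₁ R A)).obj E)) ≅ Dual.inD A A)
    (G : DRing.Cx B) {a' b' : ℤ} (hG : DRing.VanishesOutside G a' b')
    (hGf : ∀ i, Module.Flat A ((ModuleCat.restrictScalars.{u} (algebraMap A B)).obj (G.X i)))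
    (e₁ : RμBA.obj (DRing.toD ((_root_.DTen.extCx (j₁ A B)).obj G)) ≅ Dual.inD B B) :
    Nonempty (RμB.obj (DRing.toD ((_root_.DTen.extCx (j₁ R B)).obj (model A B E G))) ≅ Dual.inD B B) := by
  obtain ⟨F, bF, hFb, hFf, q, hq⟩ := RelDual.exists_resolution R A
  haveI := hq
  have hFp : DRing.TermwiseFiniteProjective F := fun i => by
    haveI := (hFf i).1; haveI := (hFf i).2
    exact ⟨inferInstance, Module.Projective.of_free⟩
  let E₁ := (_root_.DTen.extCx (j₁ R A)).obj E
  haveI : E₁.IsStrictlyGE a := (CochainComplex.isStrictlyGE_iff _ _).2 fun i hi =>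
    (ModuleCat.extendScalars.{u, u, u} (j₁ R A)).map_isZero (hE i (Or.inl hi))
  obtain ⟨I, i, hi, hI, hGE⟩ := CochainComplex.Plus.modelCategoryQuillen.exists_quasiIso_injective E₁ a
  haveI := hI
  haveI := hGE
  haveI : I.IsKInjective := CochainComplex.isKInjective_of_injective I a
  haveI := Groth.L10.RHomCx.isIso_Q_map i
  obtain ⟨eI⟩ := nonempty_coind_iso (μ R A) adjA I
  haveI : (sAA A).IsStrictlyLE 0 := (CochainComplex.isStrictlyLE_iff _ _).2 fun j hj =>
    HomologicalComplex.isZero_single_obj_X (ComplexShape.up ℤ) 0 (ModuleCat.of A A) j (by omega)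
  haveI : ∀ n, CategoryTheory.Projective ((sAA A).X n) := fun n => by
    by_cases hn : n = 0
    · subst hn
      exact CategoryTheory.Projective.of_iso
        (HomologicalComplex.singleObjXSelf (ComplexShape.up ℤ) 0 (ModuleCat.of A A)).symm
        ((IsProjective.iff_projective _).1 (inferInstanceAs (Module.Projective A A)))
    · exact (HomologicalComplex.isZero_single_obj_X (ComplexShape.up ℤ) 0 (ModuleCat.of A A) n hn).projective
  haveI : (sAA A).IsKProjective := CochainComplex.isKProjective_of_projective (sAA A) 0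
  obtain ⟨φ, hφ⟩ := Groth.L10.DualCx.exists_qis (P := sAA A) (E := coindCx (μ R A) I)
    ((eI ≪≫ RμA.mapIso (asIso (DerivedCategory.Q.map i)).symm ≪≫ e₀ ≪≫ inDIso A).symm)
  haveI := hφ
  let G' := (_root_.DTen.extCx (j₁ R B)).obj G
  have hG' : DRing.VanishesOutside G' a' b' := fun i hi =>
    (ModuleCat.extendScalars.{u, u, u} (j₁ R B)).map_isZero (hG i hi)
  let X' := (_root_.DTen.extCx (πSq R A B)).obj I ⊗ G'
  obtain ⟨eS⟩ := nonempty_coind_iso_ext (push_diag R A B) (flat_πSq R A B)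
    (fun x => ⟨x ⊗ₜ 1, by simp⟩) hFb hFp q (c := a) (fun i hi => I.isZero_of_isStrictlyGE a i hi) φ G'
    (fun i hi => hG' i (Or.inl hi)) (fun i hi => hG' i (Or.inr hi)) (flat_res_ext R A B G hGf)
    (KInjRes.res X') (KInjRes.resι X')
  haveI := Groth.L10.RHomCx.isIso_Q_map (KInjRes.resι X')
  haveI := quasiIso_ext_whisker (πSq R A B) i G' (fun i hi => hG' i (Or.inr hi)) (flat_res_ext R A B G hGf)
  haveI := Groth.L10.RHomCx.isIso_Q_map ((_root_.DTen.extCx (πSq R A B)).map i ▷ G')
  obtain ⟨c₁⟩ := nonempty_coind_iso (μ R B) adjB (KInjRes.res X')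
  haveI : CochainComplex.IsKInjective (coindCx (νSq R A B) (KInjRes.res X')) := inferInstance
  obtain ⟨c₂⟩ := nonempty_coind_iso (μ A B) adjBA (coindCx (νSq R A B) (KInjRes.res X'))
  exact ⟨RμB.mapIso (DerivedCategory.Q.mapIso
      (_root_.DTen.extTenCxIso (j₁ R B) ((_root_.DTen.extCx (algebraMap A B)).obj E) G ≪≫
        whiskerRightIso ((_root_.DTen.extCompCx (algebraMap A B) (j₁ R B)).app E ≪≫
          eqToIso (by rw [← πSq_j₁ R A B]) ≪≫
          ((_root_.DTen.extCompCx (j₁ R A) (πSq R A B)).app E).symm) G')) ≪≫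
    RμB.mapIso (asIso (DerivedCategory.Q.map ((_root_.DTen.extCx (πSq R A B)).map i ▷ G'))) ≪≫
    RμB.mapIso (asIso (DerivedCategory.Q.map (KInjRes.resι X'))) ≪≫ c₁.symm ≪≫
    DerivedCategory.Q.mapIso (coindCompIso (νSq R A B) (μ A B) (μ R B) (μ_eq_comp R A B) _) ≪≫ c₂ ≪≫
    RμBA.mapIso (eS ≪≫ DerivedCategory.Q.mapIso ((_root_.DTen.extCompCx (j₁ R B) (νSq R A B)).app G ≪≫
      eqToIso (by rw [νSq_j₁ R A B]))) ≪≫ e₁⟩

/-- composites of relative dualizing complexes -/
theorem isRelDualizing_comp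
    [DRing.HasLBaseChange (Algebra.TensorProduct.includeLeftRingHom : A →+* A ⊗[R] A)]
    {RμA : Dual.D (A ⊗[R] A) ⥤ Dual.D A} (adjA : DRing.restrictD (μ R A) ⊣ RμA)
    [DRing.HasLBaseChange (Algebra.TensorProduct.includeLeftRingHom : B →+* B ⊗[A] B)]
    {RμBA : Dual.D (B ⊗[A] B) ⥤ Dual.D B} (adjBA : DRing.restrictD (μ A B) ⊣ RμBA)
    [DRing.HasLBaseChange (Algebra.TensorProduct.includeLeftRingHom : B →+* B ⊗[R] B)]
    {RμB : Dual.D (B ⊗[R] B) ⥤ Dual.D B} (adjB : DRing.restrictD (μ R B) ⊣ RμB)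
    {K : Dual.D A} (hK : Dual2.IsRelDualizing R A RμA K) (L : DRing.Cx B)
    (hL : Dual2.IsRelDualizing A B RμBA (DRing.toD L))
    [DRing.HasLBaseChange (algebraMap A B)] [DRing.HasLTensorCx B L] :
    Dual2.IsRelDualizing R B RμB
      ((DRing.LTensorCx B L).obj ((DRing.LBaseChange (algebraMap A B)).obj K)) := by
  obtain ⟨hKp, ⟨eK⟩⟩ := hK
  obtain ⟨hLp, ⟨eL⟩⟩ := hL
  obtain ⟨E, a, b, hE, hET, ⟨iE⟩⟩ := Groth.L10.RelPC.exists_model R A hKp
  obtain ⟨G, a', b', hG, hGT, ⟨iG⟩⟩ := Groth.L10.RelPC.exists_model A B hLp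
  obtain ⟨w⟩ := nonempty_model A B (L := L) E (fun i hi => hE i (Or.inr hi)) G (fun i hi => hG i (Or.inr hi))
    (fun i => (hGT i).2) iE iG
  haveI : Module.Flat R B := Module.Flat.trans R A B
  obtain ⟨l₁⟩ := nonempty_lbc_flat (j₁ R A) (flat_j₁ R A) E
  obtain ⟨l₂⟩ := nonempty_lbc_flat (j₁ A B) (flat_j₁ A B) G
  obtain ⟨l₃⟩ := nonempty_lbc_flat (j₁ R B) (flat_j₁ R B) (model A B E G)
  obtain ⟨d⟩ := nonempty_diag R A B adjA adjBA adjB E hE
    (RμA.mapIso l₁.symm ≪≫ RμA.mapIso ((DRing.LBaseChange (j₁ R A)).mapIso iE) ≪≫ eK)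
    G hG (fun i => (hGT i).2)
    (RμBA.mapIso l₂.symm ≪≫ RμBA.mapIso ((DRing.LBaseChange (j₁ A B)).mapIso iG) ≪≫ eL)
  exact ⟨isRelPerfect_model R A B E hE hET G hG hGT w.symm,
    ⟨RμB.mapIso ((DRing.LBaseChange (j₁ R B)).mapIso w ≪≫ l₃) ≪≫ d⟩⟩

end Groth.L10.RelDualComp
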