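import Groth.Agent.L10.RelDual.BaseChange
import Mathlib.RingTheory.RingHom.Flat
import Mathlib.Algebra.Module.FinitePresentation
import Mathlib.LinearAlgebra.TensorProduct.RightExactness

/-!
The squares of rings of a composite of algebras, and flatness and finite presentation of tensor products.
-/

set_option autoImplicit false
set_option backward.defeqAttrib.useBackward true
set_option backward.isDefEq.respectTransparency false
set_option linter.style.haveILetI false
set_option maxHeartbeats 1600000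

universe u

open scoped TensorProduct

noncomputable section

namespace Groth.L10.RelDualComp

open Groth.L10.RelDual

variable (R A B : Type u) [CommRing R] [CommRing A] [CommRing B] [Algebra R A] [Algebra A B] [Algebra R B]
  [IsScalarTower R A B]

/-- `A ⊗_R A → B ⊗_R B` -/
abbrev πSq : A ⊗[R] A →+* B ⊗[R] B :=
  (Algebra.TensorProduct.map (IsScalarTower.toAlgHom R A B) (IsScalarTower.toAlgHom R A B)).toRingHom

/-- `A ⊗_R B → B ⊗_R B` -/
abbrev ψR : A ⊗[R] B →+* B ⊗[R] B :=
  (Algebra.TensorProduct.map (IsScalarTower.toAlgHom R A B) (AlgHom.id R B)).toRingHom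

/-- `B ⊗_R B → B ⊗_A B` -/
def νSq : B ⊗[R] B →+* B ⊗[A] B :=
  (Algebra.TensorProduct.lift (Algebra.TensorProduct.includeLeft : B →ₐ[R] B ⊗[A] B)
    ((Algebra.TensorProduct.includeRight : B →ₐ[A] B ⊗[A] B).restrictScalars R)
    fun _ _ => Commute.all _ _).toRingHom

theorem νSq_tmul (x y : B) : νSq R A B (x ⊗ₜ[R] y) = x ⊗ₜ[A] y := by
  simp [νSq]

theorem νSq_surjective : Function.Surjective (νSq R A B) := fun z => by
  induction z using TensorProduct.induction_on with
  | zero => exact ⟨0, map_zero _⟩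
  | tmul x y => exact ⟨x ⊗ₜ y, νSq_tmul R A B x y⟩
  | add a b ha hb =>
    obtain ⟨a', rfl⟩ := ha
    obtain ⟨b', rfl⟩ := hb
    exact ⟨a' + b', map_add _ _ _⟩

theorem μ_eq_comp : μ R B = (μ A B).comp (νSq R A B) :=
  RingHom.ext fun z => by
    induction z using TensorProduct.induction_on with
    | zero => simp
    | tmul x y => simp [νSq_tmul]
    | add a b ha hb => rw [map_add, map_add, ha, hb]

theorem νSq_j₁ : (νSq R A B).comp (j₁ R B) = j₁ A B :=
  RingHom.ext fun x => νSq_tmul R A B x 1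

theorem πSq_j₁ : (πSq R A B).comp (j₁ R A) = (j₁ R B).comp (algebraMap A B) :=
  RingHom.ext fun x => by simp

theorem flat_algHom (h : Module.Flat A B) : RingHom.Flat (algebraMap A B) := RingHom.flat_algebraMap_iff.2 h

theorem flat_πSq [Module.Flat A B] : (πSq R A B).Flat :=
  RingHom.Flat.tensorProductMap (flat_algHom A B inferInstance) (flat_algHom A B inferInstance)

theorem push_tensor (A B : Type u) [CommRing A] [CommRing B] [Algebra R A] [Algebra R B] :
    Push (algebraMap R A) (algebraMap R B) (Algebra.TensorProduct.includeRight : B →ₐ[R] A ⊗[R] B).toRingHom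
      (Algebra.TensorProduct.includeLeftRingHom : A →+* A ⊗[R] B) := by
  refine ⟨RingHom.ext fun r => by simp [← Algebra.TensorProduct.tmul_one_eq_one_tmul], ?_⟩
  convert (TensorProduct.isPushout (R := R) (S := A) (T := B)) <;>
    first
      | rfl
      | exact Algebra.algebra_ext _ _ fun _ => rfl
      | exact Algebra.algebra_ext _ _ fun r => (Algebra.TensorProduct.tmul_one_eq_one_tmul r).symm
      | exact Algebra.algebra_ext _ _ fun r => Algebra.TensorProduct.tmul_one_eq_one_tmul r

/-- `B ⊗_R B = (A ⊗_R B) ⊗_A B` -/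
theorem push_left : Push (Algebra.TensorProduct.includeLeftRingHom : A →+* A ⊗[R] B) (algebraMap A B) (j₁ R B)
    (ψR R A B) := by
  have h₁ := (push_tensor R A B).symm
  have h₂ : Push (algebraMap R B) ((algebraMap A B).comp (algebraMap R A)) (j₁ R B)
      ((ψR R A B).comp (Algebra.TensorProduct.includeRight : B →ₐ[R] A ⊗[R] B).toRingHom) := by
    rw [← IsScalarTower.algebraMap_eq R A B,
      show (ψR R A B).comp (Algebra.TensorProduct.includeRight : B →ₐ[R] A ⊗[R] B).toRingHom =
        (Algebra.TensorProduct.includeRight : B →ₐ[R] B ⊗[R] B).toRingHom from RingHom.ext fun x => by simp]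
    exact (push_tensor R B B).symm
  exact h₁.cancel h₂ (RingHom.ext fun x => by simp)

/-- `B ⊗_A B = (B ⊗_R B) ⊗_{A ⊗_R A} A` -/
theorem push_diag : Push (πSq R A B) (μ R A) (algebraMap A (B ⊗[A] B)) (νSq R A B) := by
  have hc : (algebraMap A (B ⊗[A] B)).comp (μ R A) = (νSq R A B).comp (πSq R A B) :=
    RingHom.ext fun z => by
      induction z using TensorProduct.induction_on with
      | zero => simp
      | add x y hx hy => rw [map_add, map_add, hx, hy]
      | tmul x y =>
        show algebraMap A (B ⊗[A] B) (Algebra.TensorProduct.lmul' R (x ⊗ₜ[R] y)) =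
          νSq R A B (algebraMap A B x ⊗ₜ[R] algebraMap A B y)
        rw [νSq_tmul, Algebra.TensorProduct.lmul'_apply_tmul, map_mul]
        conv_rhs => rw [← mul_one (algebraMap A B x), ← one_mul (algebraMap A B y),
          ← Algebra.TensorProduct.tmul_mul_tmul, ← Algebra.TensorProduct.tmul_one_eq_one_tmul]
        rfl
  refine ⟨hc, ?_⟩
  letI := (πSq R A B).toAlgebra
  letI := (μ R A).toAlgebra
  letI := (νSq R A B).toAlgebra
  letI := ((algebraMap A (B ⊗[A] B)).comp (μ R A)).toAlgebra
  haveI : IsScalarTower (A ⊗[R] A) A (B ⊗[A] B) := ⟨fun t a p => by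
    show ((μ R A) t * a) • p = algebraMap A (B ⊗[A] B) (μ R A t) * (a • p)
    rw [mul_smul, Algebra.smul_def]⟩
  haveI : IsScalarTower (A ⊗[R] A) (B ⊗[R] B) (B ⊗[A] B) :=
    IsScalarTower.of_algebraMap_eq fun x => RingHom.congr_fun hc x
  let fwd : (B ⊗[R] B) ⊗[A ⊗[R] A] A →ₐ[B ⊗[R] B] B ⊗[A] B :=
    Algebra.TensorProduct.lift (Algebra.ofId (B ⊗[R] B) (B ⊗[A] B))
      (IsScalarTower.toAlgHom (A ⊗[R] A) A (B ⊗[A] B)) fun _ _ => Commute.all _ _
  let U := (B ⊗[R] B) ⊗[A ⊗[R] A] A
  have hkey : ∀ a : A, ((algebraMap A B a ⊗ₜ[R] (1 : B)) ⊗ₜ[A ⊗[R] A] (1 : A) : U) =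
      ((1 : B) ⊗ₜ[R] algebraMap A B a) ⊗ₜ[A ⊗[R] A] (1 : A) := fun a => by
    have e1 : ((algebraMap A B a ⊗ₜ[R] (1 : B)) ⊗ₜ[A ⊗[R] A] (1 : A) : U) =
        ((a ⊗ₜ[R] (1 : A)) • (1 : B ⊗[R] B)) ⊗ₜ[A ⊗[R] A] (1 : A) := by
      congr 1
      rw [Algebra.smul_def, mul_one]
      simp [RingHom.algebraMap_toAlgebra]
    have e2 : (((1 : B) ⊗ₜ[R] algebraMap A B a) ⊗ₜ[A ⊗[R] A] (1 : A) : U) =
        (((1 : A) ⊗ₜ[R] a) • (1 : B ⊗[R] B)) ⊗ₜ[A ⊗[R] A] (1 : A) := by
      congr 1
      rw [Algebra.smul_def, mul_one]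
      simp [RingHom.algebraMap_toAlgebra]
    rw [e1, e2, TensorProduct.smul_tmul, TensorProduct.smul_tmul]
    congr 1
    rw [Algebra.smul_def, Algebra.smul_def]
    simp [RingHom.algebraMap_toAlgebra]
  let iL : B →+* U :=
    ((Algebra.TensorProduct.includeLeftRingHom : B ⊗[R] B →+* U)).comp (j₁ R B)
  let iR : B →+* U :=
    ((Algebra.TensorProduct.includeLeftRingHom : B ⊗[R] B →+* U)).comp (j₂ R B)
  letI : Algebra A U := (iL.comp (algebraMap A B)).toAlgebra
  let gL : B →ₐ[A] U := { iL with commutes' := fun a => rfl }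
  let gR : B →ₐ[A] U := { iR with commutes' := fun a => (hkey a).symm }
  let bwd : B ⊗[A] B →+* U := (Algebra.TensorProduct.lift gL gR fun _ _ => Commute.all _ _).toRingHom
  have hb : ∀ x y : B, bwd (x ⊗ₜ[A] y) = (x ⊗ₜ[R] y) ⊗ₜ[A ⊗[R] A] (1 : A) := fun x y => by
    show iL x * iR y = _
    show ((x ⊗ₜ[R] (1 : B)) ⊗ₜ[A ⊗[R] A] (1 : A) : U) * ((1 : B) ⊗ₜ[R] y) ⊗ₜ[A ⊗[R] A] (1 : A) = _
    rw [Algebra.TensorProduct.tmul_mul_tmul, Algebra.TensorProduct.tmul_mul_tmul, mul_one, one_mul, mul_one]
  have hbν : ∀ w : B ⊗[R] B, bwd (νSq R A B w) = w ⊗ₜ[A ⊗[R] A] (1 : A) := fun w => by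
    induction w using TensorProduct.induction_on with
    | zero => rw [map_zero, map_zero, TensorProduct.zero_tmul]
    | tmul x y => rw [νSq_tmul, hb]
    | add a b ha hb => rw [map_add, map_add, ha, hb, TensorProduct.add_tmul]
  have hfb : ∀ z, fwd (bwd z) = z := fun z => by
    induction z using TensorProduct.induction_on with
    | zero => rw [map_zero, map_zero]
    | tmul x y =>
      rw [hb]
      show νSq R A B (x ⊗ₜ[R] y) * algebraMap A (B ⊗[A] B) 1 = _
      rw [map_one, mul_one, νSq_tmul]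
    | add a b ha hb => rw [map_add, map_add, ha, hb]
  have hbf : ∀ z, bwd (fwd z) = z := fun z => by
    induction z using TensorProduct.induction_on with
    | zero => rw [map_zero, map_zero]
    | add a b ha hb => rw [map_add, map_add, ha, hb]
    | tmul w a =>
      show bwd (νSq R A B w * algebraMap A (B ⊗[A] B) a) = _
      rw [map_mul, hbν, show algebraMap A (B ⊗[A] B) a = algebraMap A B a ⊗ₜ[A] (1 : B) from rfl, hb,
        Algebra.TensorProduct.tmul_mul_tmul, one_mul]
      have : (algebraMap A B a ⊗ₜ[R] (1 : B)) = (a ⊗ₜ[R] (1 : A)) • (1 : B ⊗[R] B) := by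
        rw [Algebra.smul_def, mul_one]
        simp [RingHom.algebraMap_toAlgebra]
      rw [this, mul_smul_comm, mul_one, TensorProduct.smul_tmul]
      congr 1
      rw [Algebra.smul_def]
      simp [RingHom.algebraMap_toAlgebra]
  let e : (B ⊗[R] B) ⊗[A ⊗[R] A] A ≃ₗ[B ⊗[R] B] B ⊗[A] B :=
    { fwd.toLinearMap with invFun := bwd, left_inv := hbf, right_inv := hfb }
  have hq : Algebra.IsPushout (A ⊗[R] A) (B ⊗[R] B) A (B ⊗[A] B) := ⟨IsBaseChange.of_equiv e fun a => by
    show νSq R A B 1 * _ = _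
    rw [map_one, one_mul]
    rfl⟩
  convert hq <;>
    first
      | rfl
      | exact Algebra.algebra_ext _ _ fun _ => rfl

theorem flat_tensor (M N : Type u) [AddCommGroup M] [Module A M] [Module R M] [IsScalarTower R A M]
    [AddCommGroup N] [Module A N] [Module.Flat R M] [Module.Flat A N] : Module.Flat R (M ⊗[A] N) := by
  rw [Module.Flat.iff_rTensor_preserves_injective_linearMap]
  intro P Q _ _ _ _ f hf
  let e : ∀ X : Type u, ∀ [AddCommGroup X] [Module R X], (X ⊗[R] (M ⊗[A] N)) ≃ₗ[R] (M ⊗[R] X) ⊗[A] N :=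
    fun X _ _ => TensorProduct.comm R X (M ⊗[A] N) ≪≫ₗ
      (TensorProduct.AlgebraTensorModule.rightComm R A A M N X).restrictScalars R
  let g : (M ⊗[R] P) →ₗ[A] (M ⊗[R] Q) := TensorProduct.AlgebraTensorModule.lTensor A M f
  have hg : Function.Injective g := fun x y hxy =>
    Module.Flat.lTensor_preserves_injective_linearMap (M := M) f hf hxy
  have hgN := Module.Flat.rTensor_preserves_injective_linearMap (M := N) g hg
  have hc : ∀ z, e Q (f.rTensor (M ⊗[A] N) z) = g.rTensor N (e P z) := fun z => by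
    induction z using TensorProduct.induction_on with
    | zero => simp only [map_zero]
    | add a b ha hb => simp only [map_add, ha, hb]
    | tmul p w =>
      induction w using TensorProduct.induction_on with
      | zero => simp only [TensorProduct.tmul_zero, map_zero]
      | add a b ha hb => simp only [TensorProduct.tmul_add, map_add, ha, hb]
      | tmul m n => rfl
  intro x y hxy
  exact (e P).injective (hgN (by rw [← hc, ← hc, hxy]))

theorem fp_tensor (M N : Type u) [AddCommGroup M] [Module B M] [AddCommGroup N] [Module B N]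
    [Module.FinitePresentation B M] [Module.FinitePresentation B N] : Module.FinitePresentation B (M ⊗[B] N) := by
  obtain ⟨n, f, hf⟩ := Module.Finite.exists_fin' B N
  haveI : Module.Finite B (LinearMap.ker f) :=
    Module.Finite.iff_fg.2 (Module.FinitePresentation.fg_ker f hf)
  haveI : Module.FinitePresentation B (M ⊗[B] (Fin n → B)) :=
    haveI := fp_tensor_free (A := B) (Fin n → B) M
    Module.FinitePresentation.of_equiv (TensorProduct.comm B (Fin n → B) M)
  refine Module.finitePresentation_of_surjective (f.lTensor M) (LinearMap.lTensor_surjective M hf) ?_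
  rw [(lTensor_exact M (LinearMap.exact_subtype_ker_map f) hf).linearMap_ker_eq, ← Module.Finite.iff_fg]
  infer_instance

end Groth.L10.RelDualComp
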