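import Groth.Agent.L10.RelDualComp.Step
import Groth.Agent.L10.RelDualComp.Rings
import Groth.Agent.L10.DRing.TensorFinite
import Groth.Agent.L10.RelPC.RelPerfModel

/-!
The composite of two relatively perfect complexes, on models.
-/

set_option autoImplicit false
set_option backward.defeqAttrib.useBackward true
set_option backward.isDefEq.respectTransparency false
set_option backward.isDefEq.respectTransparency.types false
set_option linter.style.haveILetI false
set_option maxHeartbeats 1600000

universe u

open CategoryTheory CategoryTheory.Limits MonoidalCategory CochainComplex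
open scoped TensorProduct

attribute [local instance] HasDerivedCategory.standard

noncomputable section

namespace Groth.L10.RelDualComp

open Groth.L00.BaseChangeTensor

variable (R A B : Type u) [CommRing R] [CommRing A] [CommRing B] [Algebra R A] [Algebra A B] [Algebra R B]
  [IsScalarTower R A B] [Module.Flat A B]

/-- the composite model -/
abbrev model (E : DRing.Cx A) (G : DRing.Cx B) : DRing.Cx B := (_root_.DTen.extCx (algebraMap A B)).obj E ⊗ G

theorem nonempty_model [DRing.HasLBaseChange (algebraMap A B)] {L : DRing.Cx B} [DRing.HasLTensorCx B L]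
    (E : DRing.Cx A) {b : ℤ} (hE : DRing.VanishesAbove E b) (G : DRing.Cx B) {b' : ℤ}
    (hG : DRing.VanishesAbove G b')
    (hGf : ∀ i, Module.Flat A ((ModuleCat.restrictScalars.{u} (algebraMap A B)).obj (G.X i)))
    {K : Dual.D A} (eE : DRing.toD E ≅ K) (eG : DRing.toD G ≅ DRing.toD L) :
    Nonempty ((DRing.LTensorCx B L).obj ((DRing.LBaseChange (algebraMap A B)).obj K) ≅
      DRing.toD (model A B E G)) := by
  haveI : E.IsStrictlyLE b := (CochainComplex.isStrictlyLE_iff _ _).2 hE
  obtain ⟨Q, hQb, hQf, hQk, ⟨eQ⟩⟩ := Groth.L02.PC.exists_free_rep (K := DRing.toD E)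
    ((DerivedCategory.isLE_iff (DRing.toD E) b).1 inferInstance)
  haveI := hQk
  obtain ⟨g, hg⟩ := Groth.L10.DualCx.exists_qis eQ
  haveI := hg
  have hQflat : DRing.IsKFlat A Q := Groth.L10.KFlat.of_bounded Q b hQb fun i => by
    haveI := hQf i
    infer_instance
  obtain ⟨e⟩ := Groth.L10.TensorFinite.LTensorCx_iso L (P := (_root_.DTen.extCx (algebraMap A B)).obj Q) (Q := G)
    (Groth.L10.DTen.isKFlat_ext (algebraMap A B) hQflat) (Iso.refl _) eG
  haveI := quasiIso_ext_whisker (algebraMap A B) g G hG hGf
  haveI := Groth.L10.RHomCx.isIso_Q_map ((_root_.DTen.extCx (algebraMap A B)).map g ▷ G)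
  exact ⟨(DRing.LTensorCx B L).mapIso ((DRing.LBaseChange (algebraMap A B)).mapIso (eE.symm ≪≫ eQ.symm) ≪≫
    Groth.L02.PC.lbcIso (algebraMap A B) Q) ≪≫ e ≪≫ DerivedCategory.Q.mapIso (_root_.DTen.braidCx _ _) ≪≫
    asIso (DerivedCategory.Q.map ((_root_.DTen.extCx (algebraMap A B)).map g ▷ G))⟩

theorem vanishesAbove_tensor {B : Type u} [CommRing B] (P K : DRing.Cx B) {c c' : ℤ} (hP : DRing.VanishesAbove P c)
    (hK : DRing.VanishesAbove K c') : DRing.VanishesAbove (P ⊗ K) (c + c') := fun n hn => by
  haveI := (RelDual.totalEquiv P K n ∅ fun p _ => by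
    by_cases h : c < p
    · exact Groth.L28.TensorQis.subsingleton_tensor_left _ (hP p h)
    · haveI := ModuleCat.subsingleton_of_isZero (hK (n - p) (by omega))
      infer_instance).toEquiv.subsingleton
  exact ModuleCat.isZero_of_subsingleton _

theorem subsingleton_term {B : Type u} [CommRing B] (P K : DRing.Cx B) {a b : ℤ} (hP : DRing.VanishesOutside P a b)
    (n : ℤ) (p : ℤ) (hp : p ∉ Finset.Icc a b) : Subsingleton (P.X p ⊗[B] K.X (n - p)) :=
  Groth.L28.TensorQis.subsingleton_tensor_left _ (hP p (by simp at hp; omega))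

theorem isRelPerfect_model [Module.Flat R A] [Algebra.FinitePresentation R A] [Algebra.FinitePresentation A B]
    (E : DRing.Cx A) {a b : ℤ} (hE : DRing.VanishesOutside E a b)
    (hET : ∀ i : ℤ, Module.FinitePresentation A (E.X i) ∧
      Module.Flat R ((ModuleCat.restrictScalars.{u} (algebraMap R A)).obj (E.X i)))
    (G : DRing.Cx B) {a' b' : ℤ} (hG : DRing.VanishesOutside G a' b')
    (hGT : ∀ i : ℤ, Module.FinitePresentation B (G.X i) ∧
      Module.Flat A ((ModuleCat.restrictScalars.{u} (algebraMap A B)).obj (G.X i)))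
    {W : Dual.D B} (e : DRing.toD (model A B E G) ≅ W) : Dual2.IsRelPerfect R B W := by
  haveI : Module.Flat R B := Module.Flat.trans R A B
  haveI : Algebra.FinitePresentation R B := Algebra.FinitePresentation.trans R A B
  let E' := (_root_.DTen.extCx (algebraMap A B)).obj E
  have hE' : DRing.VanishesOutside E' a b := fun i hi =>
    (ModuleCat.extendScalars.{u, u, u} (algebraMap A B)).map_isZero (hE i hi)
  refine Groth.L10.RelPC.isRelPerfect_of_model (R := R) (A := B) (E := model A B E G) (a + a') (b + b') ?_ (fun n => ⟨?_, ?_⟩) e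
  · rintro n (hn | hn)
    · exact RelDual.isZero_tensor E' G (fun i hi => hE' i (Or.inl hi)) (fun i hi => hG i (Or.inl hi)) n hn
    · exact vanishesAbove_tensor E' G (fun i hi => hE' i (Or.inr hi)) (fun i hi => hG i (Or.inr hi)) n hn
  · let T := RelDual.totalEquiv E' G n (Finset.Icc a b) (subsingleton_term E' G hE' n)
    haveI : ∀ p : Finset.Icc a b, Module.FinitePresentation B (E'.X p.1 ⊗[B] G.X (n - p.1)) := fun p => by
      haveI := (hET p.1).1
      haveI := (hGT (n - p.1)).1
      haveI : Module.FinitePresentation B (E'.X p.1) :=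
        Module.FinitePresentation.of_equiv (Groth.L29.FlatBC.extEquiv A B (E.X p.1)).symm
      exact fp_tensor B _ _
    exact Module.FinitePresentation.of_equiv T.symm
  · let G₀ := (Groth.L29.RestrictAdj.resCx (algebraMap A B)).obj G
    let T := RelDual.totalEquiv E G₀ n (Finset.Icc a b) (subsingleton_term E G₀ hE n)
    letI : ∀ p : ℤ, Module R (E.X p) := fun p => Module.compHom (E.X p) (algebraMap R A)
    haveI : ∀ p : ℤ, IsScalarTower R A (E.X p) := fun p => IsScalarTower.of_algebraMap_smul fun _ _ => rfl
    haveI : ∀ p : Finset.Icc a b, Module.Flat R (E.X p.1 ⊗[A] G₀.X (n - p.1)) := fun p => by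
      haveI : Module.Flat R (E.X p.1) := (hET p.1).2
      haveI : Module.Flat A (G₀.X (n - p.1)) := (hGT (n - p.1)).2
      exact flat_tensor R A (E.X p.1) (G₀.X (n - p.1))
    haveI : Module.Flat R ((p : Finset.Icc a b) → E.X p.1 ⊗[A] G₀.X (n - p.1)) :=
      Module.Flat.of_linearEquiv (DFinsupp.linearEquivFunOnFintype (R := R)).symm
    let v : (E ⊗ G₀).X n ≃ₗ[A] (ModuleCat.restrictScalars.{u} (algebraMap A B)).obj ((model A B E G).X n) :=
      ((HomologicalComplex.eval (ModuleCat.{u} A) (ComplexShape.up ℤ) n).mapIso
        (tensorIso (algebraMap A B) E G)).toLinearEquiv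
    exact Module.Flat.of_linearEquiv (M := (p : Finset.Icc a b) → E.X p.1 ⊗[A] G₀.X (n - p.1))
      ({ (v.symm.trans T).toAddEquiv with
          map_smul' := fun r x => by
            let y : (ModuleCat.restrictScalars.{u} (algebraMap A B)).obj ((model A B E G).X n) := x
            show (v.symm.trans T) (show (ModuleCat.restrictScalars.{u} (algebraMap A B)).obj ((model A B E G).X n) from
              (algebraMap R B r • (show (model A B E G).X n from x))) = r • (v.symm.trans T) y
            rw [show (show (ModuleCat.restrictScalars.{u} (algebraMap A B)).obj ((model A B E G).X n) from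
              (algebraMap R B r • (show (model A B E G).X n from x))) = algebraMap R A r • y from by
                rw [IsScalarTower.algebraMap_apply R A B]; rfl, map_smul]
            exact funext fun p => algebraMap_smul A r _ } :
        (ModuleCat.restrictScalars.{u} (algebraMap R B)).obj ((model A B E G).X n) ≃ₗ[R]
          ((p : Finset.Icc a b) → E.X p.1 ⊗[A] G₀.X (n - p.1)))

end Groth.L10.RelDualComp
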