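import Groth.Agent.L10.RelDualComp.Adjunct
import Groth.Agent.L10.RelDual.Push
import Groth.Agent.L00.PullStalk
import Groth.Agent.L29.Dual.FlatBC
import Groth.Agent.L10.KInjTransfer
import Groth.Prelude.Def_DTen5

/-!
The projection formula on complexes, and coinduction along a base change of a surjection.
-/

set_option autoImplicit false
set_option backward.defeqAttrib.useBackward true
set_option backward.isDefEq.respectTransparency false
set_option backward.isDefEq.respectTransparency.types false
set_option linter.style.haveILetI false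
set_option maxHeartbeats 1600000

universe u

open CategoryTheory CategoryTheory.Limits MonoidalCategory CochainComplex
open scoped TensorProduct

attribute [local instance] HasDerivedCategory.standard

noncomputable section

namespace Groth.L10.RelDualComp

open Groth.L28.TensorCx Groth.L29.RestrictAdj Groth.L00.BaseChangeTensor

section Natural

variable {T S : Type u} [CommRing T] [CommRing S] (g : T →+* S)

theorem tensorIso_ins (K : DRing.Cx T) (L : DRing.Cx S) (p q n : ℤ) (h : p + q = n)
    (z : K.X p ⊗[T] ((Groth.L29.RestrictAdj.resCx g).obj L).X q) :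
    (tensorIso g K L).hom.f n (ins K ((Groth.L29.RestrictAdj.resCx g).obj L) p q n h z) =
      (ModuleCat.restrictScalars.{u} g).map (HomologicalComplex.ιTensorObj ((_root_.DTen.extCx g).obj K) L p q n h)
        ((βIso g (K.X p) (L.X q)).hom z) :=
  ConcreteCategory.congr_hom (Groth.L00.FunctorTotal.ι_compX
    (ModuleCat.extendScalars g ⋙ curriedTensor (ModuleCat.{u} S)) (curriedTensor (ModuleCat.{u} T)) (𝟭 _)
    (ModuleCat.restrictScalars g) (ModuleCat.restrictScalars g) (βIso g) (c := ComplexShape.up ℤ) K L p q n h) z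

theorem tensorIso_natural {K K' : DRing.Cx T} (a : K ⟶ K') (L : DRing.Cx S) :
    (a ▷ (Groth.L29.RestrictAdj.resCx g).obj L) ≫ (tensorIso g K' L).hom =
      (tensorIso g K L).hom ≫ (Groth.L29.RestrictAdj.resCx g).map ((_root_.DTen.extCx g).map a ▷ L) := by
  refine HomologicalComplex.hom_ext _ _ fun n => Groth.L28.TensorCx.hom_ext fun p q h z => ?_
  show (tensorIso g K' L).hom.f n ((a ▷ (Groth.L29.RestrictAdj.resCx g).obj L).f n _) =
    ((_root_.DTen.extCx g).map a ▷ L).f n ((tensorIso g K L).hom.f n _)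
  rw [show (a ▷ (Groth.L29.RestrictAdj.resCx g).obj L).f n (ins K ((Groth.L29.RestrictAdj.resCx g).obj L) p q n h z) = _ from
      map_ins a (𝟙 ((Groth.L29.RestrictAdj.resCx g).obj L)) p q n h z]
  rw [tensorIso_ins, tensorIso_ins]
  induction z using TensorProduct.induction_on with
  | zero => simp only [map_zero]
  | add z z' hz hz' => simp only [map_add, hz, hz']
  | tmul k l =>
    exact (map_ins ((_root_.DTen.extCx g).map a) (𝟙 L) p q n h
      ((βIso g (K.X p) (L.X q)).hom (k ⊗ₜ[T] l))).symm

/-- flatness descends quasi-isomorphisms of the projection formula -/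
theorem quasiIso_ext_whisker {K K' : DRing.Cx T} (a : K ⟶ K') [QuasiIso a] (L : DRing.Cx S) {b : ℤ}
    (hLb : DRing.VanishesAbove L b)
    (hLf : ∀ i, Module.Flat T ((ModuleCat.restrictScalars.{u} g).obj (L.X i))) :
    QuasiIso ((_root_.DTen.extCx g).map a ▷ L) := by
  haveI := Groth.L10.KFlat.quasiIso_whiskerRight a (K := (Groth.L29.RestrictAdj.resCx g).obj L)
    (Groth.L10.KFlat.of_bounded _ b (fun i hi => Functor.map_isZero (ModuleCat.restrictScalars.{u} g) (hLb i hi)) hLf)
  haveI : QuasiIso ((a ▷ (Groth.L29.RestrictAdj.resCx g).obj L) ≫ (tensorIso g K' L).hom) := inferInstance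
  rw [tensorIso_natural] at this
  haveI := this
  haveI : QuasiIso ((Groth.L29.RestrictAdj.resCx g).map ((_root_.DTen.extCx g).map a ▷ L)) :=
    quasiIso_of_comp_left (tensorIso g K L).hom _
  exact (HomologicalComplex.quasiIso_map_iff_of_preservesHomology ((_root_.DTen.extCx g).map a ▷ L)
    (ModuleCat.restrictScalars.{u} g)).1 inferInstance

end Natural

variable {T S A P : Type u} [CommRing T] [CommRing S] [CommRing A] [CommRing P]

/-- composites of restrictions -/
def resResIso (π : T →+* S) (μ : T →+* A) (θ : A →+* P) (ν : S →+* P) (h : θ.comp μ = ν.comp π) (M : DRing.Cx P) :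
    (Groth.L29.RestrictAdj.resCx μ).obj ((Groth.L29.RestrictAdj.resCx θ).obj M) ≅
      (Groth.L29.RestrictAdj.resCx π).obj ((Groth.L29.RestrictAdj.resCx ν).obj M) :=
  HomologicalComplex.Hom.isoOfComponents (fun n =>
    (ModuleCat.restrictScalarsComp'App μ θ (θ.comp μ) rfl (M.X n)).symm ≪≫
      ModuleCat.restrictScalarsComp'App π ν (θ.comp μ) h (M.X n))
    (fun i j _ => ModuleCat.hom_ext (LinearMap.ext fun _ => rfl))

theorem resResIso_hom_val (π : T →+* S) (μ : T →+* A) (θ : A →+* P) (ν : S →+* P) (h : θ.comp μ = ν.comp π)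
    (M : DRing.Cx P) (n : ℤ) (x : M.X n) : (resResIso π μ θ ν h M).hom.f n x = x := rfl

/-- the ring in degree zero, extended -/
def extRingIso (θ : A →+* P) : (_root_.DTen.extCx θ).obj (sAA A) ≅ sAA P :=
  letI := θ.toAlgebra
  (HomologicalComplex.singleMapHomologicalComplex (ModuleCat.extendScalars.{u, u, u} θ) (ComplexShape.up ℤ) 0).app
      (ModuleCat.of A A) ≪≫
    (CochainComplex.singleFunctor (ModuleCat.{u} P) 0).mapIso
      ((Groth.L29.FlatBC.extEquiv A P (ModuleCat.of A A)).trans
        (Algebra.TensorProduct.rid A P P).toLinearEquiv).toModuleIso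

/-- coinduction along a base change of a surjection, applied to a tensor product -/
theorem nonempty_coind_iso_ext {π : T →+* S} {μ : T →+* A} {θ : A →+* P} {ν : S →+* P}
    (hp : RelDual.Push π μ θ ν) (hπ : π.Flat) (hμ : Function.Surjective μ)
    {F : DRing.Cx T} {b : ℤ} (hFb : DRing.VanishesAbove F b)
    (hFp : DRing.TermwiseFiniteProjective F) (q : F ⟶ sA μ) [QuasiIso q]
    {I : DRing.Cx T} [I.IsKInjective] {c : ℤ} (hI : ∀ i, i < c → IsZero (I.X i))
    (φ : sAA A ⟶ coindCx μ I) [QuasiIso φ]
    (G : DRing.Cx S) {a' b' : ℤ} (hG : ∀ i, i < a' → IsZero (G.X i)) (hG' : DRing.VanishesAbove G b')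
    (hGf : ∀ i, Module.Flat T ((ModuleCat.restrictScalars.{u} π).obj (G.X i)))
    (L : DRing.Cx S) [L.IsKInjective] (ι : (_root_.DTen.extCx π).obj I ⊗ G ⟶ L) [QuasiIso ι] :
    Nonempty (DRing.toD (coindCx ν L) ≅ DRing.toD ((_root_.DTen.extCx ν).obj G)) := by
  have hc : θ.comp μ = ν.comp π := hp.comm
  haveI : PreservesFiniteLimits (ModuleCat.extendScalars.{u, u, u} π) :=
    ModuleCat.preservesFiniteLimits_extendScalars_of_flat hπ
  haveI : PreservesFiniteColimits (ModuleCat.extendScalars.{u, u, u} π) :=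
    haveI : PreservesColimitsOfSize.{0, 0} (ModuleCat.extendScalars.{u, u, u} π) :=
      (ModuleCat.extendRestrictScalarsAdj.{u, u, u} π).leftAdjoint_preservesColimits
    PreservesColimitsOfSize.preservesFiniteColimits _
  haveI : CochainComplex.IsKInjective ((Groth.L29.RestrictAdj.resCx π).obj L) :=
    Groth.L10.KInjTransfer.isKInjective_map (ModuleCat.extendRestrictScalarsAdj π) L
  obtain ⟨eb⟩ := hp.nonempty_bcRes (sAA A)
  let M : DRing.Cx P := (_root_.DTen.extCx ν).obj G
  let p : (Groth.L29.RestrictAdj.resCx ν).obj M ≅ (_root_.DTen.extCx π).obj (sA μ) ⊗ G :=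
    (Groth.L29.RestrictAdj.resCx ν).mapIso (ρ_ M).symm ≪≫ (tensorIso ν G (sAA P)).symm ≪≫
      _root_.DTen.braidCx G ((Groth.L29.RestrictAdj.resCx ν).obj (sAA P)) ≪≫
      whiskerRightIso ((Groth.L29.RestrictAdj.resCx ν).mapIso (extRingIso θ).symm ≪≫ eb.symm ≪≫
        (_root_.DTen.extCx π).mapIso (sRes μ)) G
  let u₀ := p.hom ≫ ((_root_.DTen.extCx π).map (εOf φ) ▷ G) ≫ ι
  let G₀ : DRing.Cx T := (Groth.L29.RestrictAdj.resCx π).obj G
  let e : (Groth.L29.RestrictAdj.resCx μ).obj ((Groth.L29.RestrictAdj.resCx θ).obj M) ≅ sA μ ⊗ G₀ :=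
    resResIso π μ θ ν hc M ≪≫ (Groth.L29.RestrictAdj.resCx π).mapIso p ≪≫ (tensorIso π (sA μ) G).symm
  let ι₀ : I ⊗ G₀ ⟶ (Groth.L29.RestrictAdj.resCx π).obj L :=
    (tensorIso π I G).hom ≫ (Groth.L29.RestrictAdj.resCx π).map ι
  haveI : QuasiIso ((Groth.L29.RestrictAdj.resCx π).map ι) :=
    HomologicalComplex.quasiIso_map_iff_of_preservesHomology ι (ModuleCat.restrictScalars.{u} π) |>.2 inferInstance
  haveI : QuasiIso ι₀ := inferInstanceAs
    (QuasiIso ((tensorIso π I G).hom ≫ (Groth.L29.RestrictAdj.resCx π).map ι))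
  haveI h₀ := quasiIso_adjunct φ hμ hFb hFp q hI G₀ (a' := a') (b' := b')
    (fun i hi => Functor.map_isZero (ModuleCat.restrictScalars.{u} π) (hG i hi))
    (fun i hi => Functor.map_isZero (ModuleCat.restrictScalars.{u} π) (hG' i hi)) hGf
    ((Groth.L29.RestrictAdj.resCx θ).obj M) e _ ι₀
  let cmp : (Groth.L29.RestrictAdj.resCx θ).obj (coindCx ν L) ⟶
      coindCx μ ((Groth.L29.RestrictAdj.resCx π).obj L) :=
    adjunct μ ((resResIso π μ θ ν hc (coindCx ν L)).hom ≫ (Groth.L29.RestrictAdj.resCx π).map (counitCx ν L))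
  haveI : ∀ n, IsIso (cmp.f n) := fun n => (ConcreteCategory.isIso_iff_bijective _).2 (by
    letI := π.toAlgebra; letI := μ.toAlgebra; letI := θ.toAlgebra; letI := ν.toAlgebra
    letI := (θ.comp μ).toAlgebra
    haveI : IsScalarTower T A P := IsScalarTower.of_algebraMap_eq fun _ => rfl
    haveI : IsScalarTower T S P := IsScalarTower.of_algebraMap_eq fun x => RingHom.congr_fun hc x
    haveI hpo : Algebra.IsPushout T S A P := hp.2
    have hb : IsBaseChange S (IsScalarTower.toAlgHom T A P).toLinearMap := hpo.out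
    letI : Module T (L.X n) := Module.compHom (L.X n) π
    haveI : IsScalarTower T S (L.X n) := IsScalarTower.of_algebraMap_smul fun _ _ => rfl
    refine ⟨fun h h' hh => ?_, fun g => ?_⟩
    · refine (ModuleCat.CoextendScalars.equiv ν (L.X n)).injective (LinearMap.ext fun x => ?_)
      let E (h : (coindCx ν L).X n) : P →ₗ[S] L.X n :=
        { toFun := fun x => ModuleCat.CoextendScalars.equiv ν (L.X n) h x
          map_add' := map_add _
          map_smul' := fun s x => map_smul (ModuleCat.CoextendScalars.equiv ν (L.X n) h) s x }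
      have := hb.algHom_ext (E h) (E h') fun a => by
        have h1 : ModuleCat.CoextendScalars.equiv ν (L.X n) h ((1 : P) * θ a) =
            ModuleCat.CoextendScalars.equiv ν (L.X n) h' ((1 : P) * θ a) :=
          congrArg (fun w => ModuleCat.CoextendScalars.equiv μ _ w a) hh
        rw [one_mul] at h1
        exact h1
      exact LinearMap.congr_fun this x
    · let g' : A →ₗ[T] L.X n :=
        { toFun := fun a => ModuleCat.CoextendScalars.equiv μ _ g a
          map_add' := map_add _
          map_smul' := fun t a => map_smul (ModuleCat.CoextendScalars.equiv μ _ g) t a }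
      refine ⟨(ModuleCat.CoextendScalars.equiv ν (L.X n)).symm
        { toFun := fun x => hb.lift g' x
          map_add' := map_add _
          map_smul' := fun s x => map_smul (hb.lift g') s x }, ?_⟩
      refine (ModuleCat.CoextendScalars.equiv μ _).injective (LinearMap.ext fun a => ?_)
      show hb.lift g' ((1 : P) * θ a) = _
      rw [one_mul]
      exact hb.lift_eq g' a)
  haveI : IsIso cmp := HomologicalComplex.Hom.isIso_of_components _
  have hnat : e.hom ≫ (εOf φ ▷ G₀) ≫ ι₀ =
      (resResIso π μ θ ν hc M).hom ≫ (Groth.L29.RestrictAdj.resCx π).map u₀ := by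
    have h1 := tensorIso_natural π (εOf φ) G
    show ((resResIso π μ θ ν hc M).hom ≫ (Groth.L29.RestrictAdj.resCx π).map p.hom ≫ (tensorIso π (sA μ) G).inv) ≫
      (εOf φ ▷ (Groth.L29.RestrictAdj.resCx π).obj G) ≫ (tensorIso π I G).hom ≫
        (Groth.L29.RestrictAdj.resCx π).map ι = _
    rw [reassoc_of% h1]
    simp [u₀]
  have key : (Groth.L29.RestrictAdj.resCx θ).map (adjunct ν u₀) ≫ cmp =
      adjunct μ (e.hom ≫ (εOf φ ▷ G₀) ≫ ι₀) := by
    rw [hnat]
    refine HomologicalComplex.hom_ext _ _ fun n => ModuleCat.hom_ext (LinearMap.ext fun m =>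
      (ModuleCat.CoextendScalars.equiv μ _).injective (LinearMap.ext fun a => ?_))
    show u₀.f n (((1 : P) * θ a) • (show M.X n from m)) = u₀.f n (θ a • (show M.X n from m))
    rw [one_mul]
  haveI : QuasiIso ((Groth.L29.RestrictAdj.resCx θ).map (adjunct ν u₀) ≫ cmp) := by
    rw [key]
    exact h₀
  haveI : QuasiIso ((Groth.L29.RestrictAdj.resCx θ).map (adjunct ν u₀)) := quasiIso_of_comp_right _ cmp
  haveI : QuasiIso (adjunct ν u₀) :=
    (HomologicalComplex.quasiIso_map_iff_of_preservesHomology (adjunct ν u₀) (ModuleCat.restrictScalars.{u} θ)).1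
      inferInstance
  haveI := Groth.L10.RHomCx.isIso_Q_map (adjunct ν u₀)
  exact ⟨(asIso (DerivedCategory.Q.map (adjunct ν u₀))).symm⟩

end Groth.L10.RelDualComp
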